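import Groth.Agent.DRingLib.TorBalance
import Groth.Agent.LechLib.Koszul
import Groth.Agent.TorShiftLib.Basic
import Groth.Agent.RegImmKindLib.KindFlat
import Groth.Prelude.Def_IntMult

/-!
# `Tor` against the Koszul complex of a regular sequence
-/

set_option autoImplicit false
set_option backward.isDefEq.respectTransparency false
set_option backward.isDefEq.respectTransparency.types false

universe u

open CategoryTheory CategoryTheory.Limits MonoidalCategory HomologicalComplex KFlatLib Groth.Agent.DRingLib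
open Groth.Agent.KoszChiLib (Idl)

namespace KoszTorLib

variable {R : Type u} [CommRing R]

/-- Balancing as an isomorphism, for a K-flat complex quasi-isomorphic to a module. -/
theorem nonempty_balance {M N : ModuleCat.{u} R} {K : CochainComplex (ModuleCat.{u} R) ℤ}
    (hK : DRing.IsKFlat R K) (π : K ⟶ (CochainComplex.singleFunctor (ModuleCat.{u} R) 0).obj M) [QuasiIso π]
    (Q : ProjectiveResolution N) (i : ℤ) :
    Nonempty ((tensorN K N).homology i ≅
      (((tensorLeft M).mapHomologicalComplex (ComplexShape.up ℤ)).obj Q.cochainComplex).homology i) := by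
  obtain ⟨eM⟩ := nonempty_singleTensorIso M Q.cochainComplex
  obtain ⟨eN⟩ := nonempty_singleTensorIso N K
  let N₀ := (CochainComplex.singleFunctor (ModuleCat.{u} R) 0).obj N
  have q₁ : QuasiIso (tMap π (𝟙 Q.cochainComplex)) :=
    KFlatLib.quasiIso_tMap_right (isKFlat_projectiveResolution Q) π
  have q₂ : QuasiIso (tMap (𝟙 K) Q.π') := KFlatLib.quasiIso_tMap_left hK Q.π'
  have i₁ : IsIso (homologyMap (tMap π (𝟙 Q.cochainComplex)) i) :=
    (quasiIsoAt_iff_isIso_homologyMap _ _).mp (q₁.quasiIsoAt i)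
  have i₂ : IsIso (homologyMap (tMap (𝟙 K) Q.π') i) :=
    (quasiIsoAt_iff_isIso_homologyMap _ _).mp (q₂.quasiIsoAt i)
  let H := homologyFunctor (ModuleCat.{u} R) (ComplexShape.up ℤ) i
  let eT : tensorN K N ≅ tT K N₀ :=
    ((NatIso.mapHomologicalComplex (BraidedCategory.tensorLeftIsoTensorRight N)
      (ComplexShape.up ℤ)).app K).symm ≪≫ eN.symm ≪≫ KFlatLib.tensorFlipIso K N₀
  exact ⟨H.mapIso eT ≪≫ (@asIso _ _ _ _ _ i₂).symm ≪≫ (@asIso _ _ _ _ _ i₁) ≪≫ H.mapIso eM⟩

/-- An additive functor applied to the two forms of a projective resolution: the same homology. -/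
theorem nonempty_cochain_homology (F : ModuleCat.{u} R ⥤ ModuleCat.{u} R) [F.Additive]
    {M : ModuleCat.{u} R} (P : ProjectiveResolution M) (q : ℕ) :
    Nonempty (((F.mapHomologicalComplex (ComplexShape.up ℤ)).obj P.cochainComplex).homology (-((q + 1 : ℕ) : ℤ)) ≅
      ((F.mapHomologicalComplex (ComplexShape.down ℕ)).obj P.complex).homology (q + 1)) := by
  refine ⟨homologyIsoSc' _ (-((q + 2 : ℕ) : ℤ)) (-((q + 1 : ℕ) : ℤ)) (-(q : ℤ)) (by simp; omega) (by simp) ≪≫
    ShortComplex.homologyMapIso (ShortComplex.isoMk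
      (F.mapIso (P.cochainComplexXIso _ (q + 2) rfl)) (F.mapIso (P.cochainComplexXIso _ (q + 1) rfl))
      (F.mapIso (P.cochainComplexXIso _ q rfl)) ?_ ?_) ≪≫
    (homologyIsoSc' _ (q + 2) (q + 1) q (by simp [ChainComplex.prev]) (by simp)).symm⟩
  · change F.map _ ≫ F.map (P.complex.d (q + 2) (q + 1)) = F.map (P.cochainComplex.d _ _) ≫ F.map _
    rw [P.cochainComplex_d _ _ (q + 2) (q + 1) rfl rfl]
    simp only [← F.map_comp, Category.assoc, Iso.inv_hom_id, Category.comp_id]
  · change F.map _ ≫ F.map (P.complex.d (q + 1) q) = F.map (P.cochainComplex.d _ _) ≫ F.map _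
    rw [P.cochainComplex_d _ _ (q + 1) q rfl rfl]
    simp only [← F.map_comp, Category.assoc, Iso.inv_hom_id, Category.comp_id]

/-- A complex in degrees `≤ 0`, exact off zero, resolves its `H⁰`. -/
theorem exists_quasiIso_single (K : CochainComplex (ModuleCat.{u} R) ℤ) (h1 : ∀ i, 0 < i → IsZero (K.X i))
    (hex : ∀ i, i ≠ 0 → IsZero (K.homology i)) :
    ∃ π : K ⟶ (single (ModuleCat.{u} R) (ComplexShape.up ℤ) 0).obj (K.homology 0), QuasiIso π := by
  have hd : K.d 0 1 = 0 := (h1 1 one_pos).eq_of_tgt _ _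
  haveI : IsIso (K.iCycles 0) := K.isIso_iCycles 0 1 (by simp) hd
  have hw : ∀ i, (ComplexShape.up ℤ).Rel i 0 → K.d i 0 ≫ inv (K.iCycles 0) ≫ K.homologyπ 0 = 0 := fun i _ => by
    rw [← Category.assoc, show K.d i 0 ≫ inv (K.iCycles 0) = K.toCycles i 0 by
      rw [IsIso.comp_inv_eq, K.toCycles_i]]
    exact K.toCycles_comp_homologyπ i 0
  let π : K ⟶ (single (ModuleCat.{u} R) (ComplexShape.up ℤ) 0).obj (K.homology 0) :=
    mkHomToSingle (inv (K.iCycles 0) ≫ K.homologyπ 0) hw
  refine ⟨π, ⟨fun i => ?_⟩⟩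
  rw [quasiIsoAt_iff_isIso_homologyMap]
  rcases eq_or_ne i 0 with rfl | hi
  · have key : homologyMap π 0 = (singleObjHomologySelfIso (ComplexShape.up ℤ) 0 (K.homology 0)).inv := by
      rw [← cancel_epi (K.homologyπ 0), homologyπ_naturality, Iso.eq_comp_inv, Category.assoc,
        homologyπ_singleObjHomologySelfIso_hom, singleObjCyclesSelfIso_hom, cyclesMap_i_assoc]
      simp [π]
    rw [key]; infer_instance
  · exact ⟨⟨0, (hex i hi).eq_of_src _ _,
      (isZero_single_obj_homology (ComplexShape.up ℤ) 0 (K.homology 0) i hi).eq_of_src _ _⟩⟩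

variable (l : List R)

theorem isZero_X_pos (i : ℤ) (hi : 0 < i) : IsZero ((Koszul.koszul R l).X i) := by
  rw [← List.ofFn_get l]
  haveI := Groth.Agent.NewIntersectLib.isZero_of_pos (fun j => l.get j) i (fun s => by omega)
  exact ModuleCat.isZero_of_subsingleton _

theorem nonempty_homology_zero :
    Nonempty ((Koszul.koszul R l).homology 0 ≅ ModuleCat.of R (R ⧸ Idl l)) := by
  obtain ⟨π, hπ, hker⟩ := LechLib.exists_H_zero l (ModuleCat.of R R)
  let e : DRing.tensorCx (Koszul.koszul R l) (ModuleCat.of R R) ≅ Koszul.koszul R l :=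
    (NatIso.mapHomologicalComplex (rightUnitorNatIso (ModuleCat.{u} R)) (ComplexShape.up ℤ)).app _ ≪≫
      (Functor.mapHomologicalComplexIdIso _ _).app _
  refine ⟨((homologyFunctor (ModuleCat.{u} R) (ComplexShape.up ℤ) 0).mapIso e).symm ≪≫ LinearEquiv.toModuleIso
    ((LinearMap.quotKerEquivOfSurjective π hπ).symm.trans (Submodule.quotEquivOfEq _ _ (hker.trans ?_)))⟩
  exact Ideal.mul_top _

/-- `Tor_i(R/(l), N)` is the Koszul homology of `N` for a Koszul regular sequence. -/
theorem length_tor_eq (hl : LCI.IsKoszulRegularSeq R l) (N : Type u) [AddCommGroup N] [Module R N] (q : ℕ) :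
    Module.length R (DRing.Tor R q (R ⧸ Idl l) N) =
      Module.length R (Groth.Agent.KoszChiLib.H l (ModuleCat.of R N) (-(q : ℤ))) := by
  rcases Nat.eq_zero_or_pos q with rfl | hq
  · obtain ⟨e⟩ := TorShiftLib.nonempty_tor_zero (R := R) (N := N) (R ⧸ Idl l)
    obtain ⟨π, hπ, hker⟩ := LechLib.exists_H_zero l (ModuleCat.of R N)
    rw [(e.trans (TensorProduct.quotTensorEquivQuotSMul N (Idl l))).length_eq, Nat.cast_zero, neg_zero,
      ← ((Submodule.quotEquivOfEq _ _ hker.symm).trans (LinearMap.quotKerEquivOfSurjective π hπ)).length_eq]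
  · obtain ⟨q, rfl⟩ := Nat.exists_eq_add_one.2 hq
    obtain ⟨π, hπ⟩ := exists_quasiIso_single (Koszul.koszul R l) (isZero_X_pos l) hl
    obtain ⟨e0⟩ := nonempty_homology_zero l
    let Q := projectiveResolution (ModuleCat.of R N)
    have hK : DRing.IsKFlat R (Koszul.koszul R l) :=
      KFlatLib.isKFlat_of_bounded_flat _ 0 (isZero_X_pos l) (Groth.Agent.KoszChiLib.flat_X l)
    obtain ⟨eb⟩ := @nonempty_balance R _ ((Koszul.koszul R l).homology 0) (ModuleCat.of R N) _ hK π hπ Q (-((q + 1 : ℕ) : ℤ))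
    obtain ⟨ec⟩ := nonempty_cochain_homology (tensorLeft ((Koszul.koszul R l).homology 0)) Q q
    let et := (Q.isoLeftDerivedObj (tensorLeft ((Koszul.koszul R l).homology 0)) (q + 1)).symm
    let em := ((CategoryTheory.Tor (ModuleCat.{u} R) (q + 1)).mapIso e0).app (ModuleCat.of R N)
    exact (eb ≪≫ ec ≪≫ et ≪≫ em).symm.toLinearEquiv.length_eq

/-- The two Euler characteristics agree. -/
theorem chi_eq (hl : LCI.IsKoszulRegularSeq R l) (N : Type u) [AddCommGroup N] [Module R N] :
    IntMult.chi R (R ⧸ Idl l) N = Groth.Agent.KoszChiLib.chi l (ModuleCat.of R N) := by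
  classical
  set n := l.length
  have h0 : ∀ q : ℕ, n < q → Module.length R (DRing.Tor R q (R ⧸ Idl l) N) = 0 := fun q hq => by
    rw [length_tor_eq l hl]
    haveI := Groth.Agent.KoszChiLib.H_eq_zero l (ModuleCat.of R N) (-(q : ℤ)) (Or.inr (by omega))
    exact Module.length_eq_zero
  rw [IntMult.chi, Groth.Agent.KoszChiLib.chi,
    finsum_eq_sum_of_support_subset (s := Finset.range (n + 1)),
    finsum_eq_sum_of_support_subset (s := (Finset.range (n + 1)).image fun q : ℕ => -(q : ℤ))]
  · rw [Finset.sum_image (by intro a _ b _ h; simpa using h)]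
    refine Finset.sum_congr rfl fun q _ => ?_
    show _ = _ * ((Module.length R _).toNat : ℤ)
    rw [length_tor_eq l hl]
    congr 1
    simp [Groth.Agent.KoszChiLib.sgn, Int.negOnePow_neg, Int.coe_negOnePow_natCast]
  · intro i hi
    have h : ¬ (i < -(l.length : ℤ) ∨ 0 < i) := fun hh =>
      hi (mul_eq_zero_of_right _ (Groth.Agent.KoszChiLib.ell_H_zero _ _ _ hh))
    simp only [not_or, not_lt] at h
    simp only [Finset.coe_image, Finset.coe_range, Set.mem_image, Set.mem_Iio]
    exact ⟨(-i).toNat, by omega, by omega⟩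
  · intro q hq
    simp only [Finset.coe_range, Set.mem_Iio]
    by_contra hcon
    exact hq (by simp [h0 q (by omega)])

/-- Regular sequences are Koszul regular. -/
theorem koszulRegular_of_regular (h : RingTheory.Sequence.IsRegular R l) : LCI.IsKoszulRegularSeq R l :=
  RegImmKindLib.seq_koszul_of_regular h

end KoszTorLib
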